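import Mathlib
import Groth.Prelude.Def_RegImm
import Groth.Agent.Lib.Helper82.RelGCIAway
import Groth.Agent.Lib.Helper82.RelGCIDescent

/-!
# Fibre dimension bounds: gluing along principal opens, polynomial rings
(helper8, for Stacks 07CF: syntomic algebras are smooth retracts of relative global complete
intersections)
-/

set_option autoImplicit false
set_option linter.style.haveILetI false
set_option linter.unusedSectionVars false
universe u

namespace Groth.Agent.H8.SR

open TensorProduct
open Groth.Agent.Lib.Helper82.RelGCIAway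

/-- membership in the fibre-dimension locus can be checked on a principal open neighbourhood -/
theorem mem_fibLocus_of_away (R S : Type u) [CommRing R] [CommRing S] [Algebra R S] (N : ℕ)
    (q : PrimeSpectrum S) (t : S) (ht : t ∉ q.asIdeal)
    (hdim : ∀ p' : PrimeSpectrum R,
      ringKrullDim (p'.asIdeal.Fiber (Localization.Away t)) ≤ (N : WithBot ℕ∞)) :
    q ∈ fibLocus R S N := by
  intro Q hQ
  let p' : PrimeSpectrum R := ⟨q.asIdeal.under R, inferInstance⟩
  have hemb := Groth.Agent.H46.JacobianCrit.isOpenEmbedding_fiber_away R S t p'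
  let _ : Algebra (p'.asIdeal.Fiber S) (p'.asIdeal.Fiber (Localization.Away t)) :=
    (Algebra.TensorProduct.map (AlgHom.id R p'.asIdeal.ResidueField)
      (IsScalarTower.toAlgHom R S (Localization.Away t))).toRingHom.toAlgebra
  have htower : IsScalarTower p'.asIdeal.ResidueField (p'.asIdeal.Fiber S)
      (p'.asIdeal.Fiber (Localization.Away t)) :=
    .of_algebraMap_eq (by
      intro x
      show algebraMap p'.asIdeal.ResidueField (p'.asIdeal.Fiber (Localization.Away t)) x =
        (Algebra.TensorProduct.map (AlgHom.id R p'.asIdeal.ResidueField)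
          (IsScalarTower.toAlgHom R S (Localization.Away t)))
          (algebraMap p'.asIdeal.ResidueField (p'.asIdeal.Fiber S) x)
      simp [Algebra.TensorProduct.algebraMap_apply])
  have hloc : IsLocalization.Away ((1 : p'.asIdeal.ResidueField) ⊗ₜ[R] t)
      (p'.asIdeal.Fiber (Localization.Away t)) := by
    have := IsLocalization.tensorProduct_tensorProduct_right R p'.asIdeal.ResidueField
      (Submonoid.powers t) (Localization.Away t)
      (by ext; simp [RingHom.algebraMap_toAlgebra])
    simpa [Submonoid.map_powers] using this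
  have hQt : ((1 : p'.asIdeal.ResidueField) ⊗ₜ[R] t) ∉ Q.asIdeal := by
    intro hmem
    apply ht
    rw [← hQ]
    exact hmem
  have hrange : Q ∈ Set.range (PrimeSpectrum.comap
      (algebraMap (p'.asIdeal.Fiber S) (p'.asIdeal.Fiber (Localization.Away t)))) := by
    rw [PrimeSpectrum.localization_away_comap_range (p'.asIdeal.Fiber (Localization.Away t))
      ((1 : p'.asIdeal.ResidueField) ⊗ₜ[R] t)]
    exact hQt
  obtain ⟨Q', hQ'⟩ := hrange
  have h1 := Groth.Agent.Lib.Helper55.localDim_eq_of_isOpenEmbedding _ hemb Q'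
  have h2 : (PrimeSpectrum.comap
      (Algebra.TensorProduct.map (AlgHom.id R p'.asIdeal.ResidueField)
        (IsScalarTower.toAlgHom R S (Localization.Away t))).toRingHom) Q' = Q := hQ'
  rw [h2] at h1
  rw [← h1]
  refine (Groth.Agent.Lib.Helper29.localDim_le_topologicalKrullDim Q').trans ?_
  rw [PrimeSpectrum.topologicalKrullDim_eq_ringKrullDim]
  exact hdim p'

/-- fibre dimension is invariant under algebra isomorphisms -/
theorem ringKrullDim_fiber_congr {R S S' : Type u} [CommRing R] [CommRing S] [CommRing S']
    [Algebra R S] [Algebra R S'] (e : S ≃ₐ[R] S') (p' : PrimeSpectrum R) :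
    ringKrullDim (p'.asIdeal.Fiber S) = ringKrullDim (p'.asIdeal.Fiber S') :=
  ringKrullDim_eq_of_ringEquiv
    (Algebra.TensorProduct.congr (AlgEquiv.refl (R := R) (A₁ := p'.asIdeal.ResidueField))
      e).toRingEquiv

/-- fibres of a polynomial ring -/
theorem ringKrullDim_fiber_mvPolynomial_le (R S' : Type u) [CommRing R] [CommRing S']
    [Algebra R S'] [Algebra.FiniteType R S'] (m N' : ℕ) (p' : PrimeSpectrum R)
    (h : ringKrullDim (p'.asIdeal.Fiber S') ≤ (N' : WithBot ℕ∞)) :
    ringKrullDim (p'.asIdeal.Fiber (MvPolynomial (Fin m) S')) ≤ ((N' + m : ℕ) : WithBot ℕ∞) := by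
  have e : p'.asIdeal.Fiber (MvPolynomial (Fin m) S') ≃ₐ[p'.asIdeal.ResidueField]
      MvPolynomial (Fin m) (p'.asIdeal.Fiber S') := MvPolynomial.rTensorAlgEquiv
  rw [ringKrullDim_eq_of_ringEquiv e.toRingEquiv]
  haveI : Algebra.FiniteType p'.asIdeal.ResidueField (p'.asIdeal.Fiber S') := inferInstance
  haveI : IsNoetherianRing (p'.asIdeal.Fiber S') :=
    Algebra.FiniteType.isNoetherianRing p'.asIdeal.ResidueField _
  rw [MvPolynomial.ringKrullDim_of_isNoetherianRing, Nat.card_fin]
  push_cast
  exact add_le_add h le_rfl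

end Groth.Agent.H8.SR
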