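import Mathlib

/-!
# Symmetric algebras: base change, smoothness for projective modules
-/

set_option autoImplicit false
set_option linter.style.haveILetI false
set_option linter.unusedSectionVars false
universe u

namespace Groth.Agent.H8.SR

open TensorProduct

section BaseChange

variable {A : Type u} [CommRing A] (A' : Type u) [CommRing A'] [Algebra A A']
  (M : Type u) [AddCommGroup M] [Module A M]

/-- `M → Sym_{A'}(A' ⊗ M)` -/
noncomputable def symFwdLin : M →ₗ[A] SymmetricAlgebra A' (A' ⊗[A] M) :=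
  ((SymmetricAlgebra.ι A' (A' ⊗[A] M)).restrictScalars A) ∘ₗ (TensorProduct.mk A A' M 1)

noncomputable def symFwd : A' ⊗[A] SymmetricAlgebra A M →ₐ[A'] SymmetricAlgebra A' (A' ⊗[A] M) :=
  Algebra.TensorProduct.lift (Algebra.ofId A' _) (SymmetricAlgebra.lift (symFwdLin A' M))
    (fun _ _ => Commute.all _ _)

noncomputable def symBwdLin : (A' ⊗[A] M) →ₗ[A'] A' ⊗[A] SymmetricAlgebra A M :=
  LinearMap.baseChange A' (SymmetricAlgebra.ι A M)

noncomputable def symBwd : SymmetricAlgebra A' (A' ⊗[A] M) →ₐ[A'] A' ⊗[A] SymmetricAlgebra A M :=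
  SymmetricAlgebra.lift (symBwdLin A' M)

theorem symFwd_one_tmul_ι (m : M) :
    symFwd A' M (1 ⊗ₜ SymmetricAlgebra.ι A M m) = SymmetricAlgebra.ι A' (A' ⊗[A] M) (1 ⊗ₜ m) := by
  simp [symFwd, symFwdLin]

theorem symBwd_ι_one_tmul (m : M) :
    symBwd A' M (SymmetricAlgebra.ι A' (A' ⊗[A] M) (1 ⊗ₜ m)) = 1 ⊗ₜ SymmetricAlgebra.ι A M m := by
  simp [symBwd, symBwdLin]

theorem symBwd_comp_symFwd : (symBwd A' M).comp (symFwd A' M) =
    AlgHom.id A' (A' ⊗[A] SymmetricAlgebra A M) := by
  apply Algebra.TensorProduct.ext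
  · ext
  · apply SymmetricAlgebra.algHom_ext
    ext m
    show symBwd A' M (symFwd A' M (1 ⊗ₜ SymmetricAlgebra.ι A M m)) = 1 ⊗ₜ SymmetricAlgebra.ι A M m
    rw [symFwd_one_tmul_ι, symBwd_ι_one_tmul]

theorem symFwd_comp_symBwd : (symFwd A' M).comp (symBwd A' M) =
    AlgHom.id A' (SymmetricAlgebra A' (A' ⊗[A] M)) := by
  apply SymmetricAlgebra.algHom_ext
  apply TensorProduct.AlgebraTensorModule.curry_injective
  ext m
  show symFwd A' M (symBwd A' M (SymmetricAlgebra.ι A' (A' ⊗[A] M) (1 ⊗ₜ m))) =
    SymmetricAlgebra.ι A' (A' ⊗[A] M) (1 ⊗ₜ m)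
  rw [symBwd_ι_one_tmul, symFwd_one_tmul_ι]

/-- base change of the symmetric algebra -/
noncomputable def symBaseChange :
    A' ⊗[A] SymmetricAlgebra A M ≃ₐ[A'] SymmetricAlgebra A' (A' ⊗[A] M) :=
  AlgEquiv.ofAlgHom (symFwd A' M) (symBwd A' M) (symFwd_comp_symBwd A' M)
    (symBwd_comp_symFwd A' M)

/-- if `A' ⊗ M` is free of rank `c`, then `A' ⊗ Sym_A(M)` is a polynomial ring -/
noncomputable def symBaseChangeMvPolynomial {c : ℕ} (b : Module.Basis (Fin c) A' (A' ⊗[A] M)) :
    A' ⊗[A] SymmetricAlgebra A M ≃ₐ[A'] MvPolynomial (Fin c) A' :=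
  (symBaseChange A' M).trans (SymmetricAlgebra.equivMvPolynomial b)

end BaseChange

section Smooth

/-- a retract of a finitely presented algebra is finitely presented -/
theorem finitePresentation_of_retract {A D C : Type u} [CommRing A] [CommRing D] [CommRing C]
    [Algebra A D] [Algebra A C] [Algebra.FinitePresentation A D] (rD : D →ₐ[A] C)
    (iD : C →ₐ[A] D) (h : rD.comp iD = AlgHom.id A C) : Algebra.FinitePresentation A C := by
  classical
  have hrs : Function.Surjective rD := fun c => ⟨iD c, congr($h c)⟩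
  obtain ⟨s, hs⟩ := (Algebra.FiniteType.out : (⊤ : Subalgebra A D).FG)
  refine Algebra.FinitePresentation.of_surjective hrs ?_
  have hri : ∀ d, rD (iD (rD d)) = rD d := fun d => congr($h (rD d))
  refine ⟨s.image (fun d => d - iD (rD d)), ?_⟩
  apply le_antisymm
  · rw [Ideal.span_le]
    intro x hx
    rw [Finset.coe_image] at hx
    obtain ⟨d, -, rfl⟩ := hx
    show rD (d - iD (rD d)) = 0
    rw [map_sub, hri, sub_self]
  · have key : ∀ d : D, d - iD (rD d) ∈
        Ideal.span ((s.image (fun d => d - iD (rD d)) : Finset D) : Set D) := by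
      intro d
      have hd : d ∈ Algebra.adjoin A (s : Set D) := by rw [hs]; trivial
      induction hd using Algebra.adjoin_induction with
      | mem x hx =>
        refine Ideal.subset_span ?_
        rw [Finset.coe_image]
        exact ⟨x, hx, rfl⟩
      | algebraMap a =>
        rw [AlgHom.commutes, AlgHom.commutes, sub_self]
        exact zero_mem _
      | add x y _ _ hx hy =>
        have : x + y - iD (rD (x + y)) = (x - iD (rD x)) + (y - iD (rD y)) := by
          rw [map_add, map_add]; ring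
        rw [this]
        exact add_mem hx hy
      | mul x y _ _ hx hy =>
        have : x * y - iD (rD (x * y)) = x * (y - iD (rD y)) + (x - iD (rD x)) * iD (rD y) := by
          rw [map_mul, map_mul]; ring
        rw [this]
        exact add_mem (Ideal.mul_mem_left _ _ hy) (Ideal.mul_mem_right _ _ hx)
    intro d hd
    have hd0 : rD d = 0 := hd
    have := key d
    rwa [hd0, map_zero, sub_zero] at this

variable (A : Type u) [CommRing A] (M : Type u) [AddCommGroup M] [Module A M]

theorem formallySmooth_sym [Module.Projective A M] :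
    Algebra.FormallySmooth A (SymmetricAlgebra A M) := by
  refine Algebra.FormallySmooth.of_comp_surjective fun B _ _ I hI f => ?_
  let u : M →ₗ[A] B ⧸ I := f.toLinearMap ∘ₗ SymmetricAlgebra.ι A M
  let p : B →ₗ[A] B ⧸ I := (Ideal.Quotient.mkₐ A I).toLinearMap
  obtain ⟨v, hv⟩ := Module.projective_lifting_property p u Ideal.Quotient.mk_surjective
  refine ⟨SymmetricAlgebra.lift v, ?_⟩
  apply SymmetricAlgebra.algHom_ext
  ext m
  show Ideal.Quotient.mkₐ A I (SymmetricAlgebra.lift v (SymmetricAlgebra.ι A M m)) =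
    f (SymmetricAlgebra.ι A M m)
  rw [SymmetricAlgebra.lift_ι_apply]
  exact congr($hv m)

theorem finitePresentation_sym [Module.Finite A M] [Module.Projective A M] :
    Algebra.FinitePresentation A (SymmetricAlgebra A M) := by
  classical
  obtain ⟨r, π, hπ⟩ := Module.Finite.exists_fin' A M
  obtain ⟨σ, hσ⟩ := Module.projective_lifting_property π LinearMap.id hπ
  let rD : MvPolynomial (Fin r) A →ₐ[A] SymmetricAlgebra A M :=
    MvPolynomial.aeval (fun j => SymmetricAlgebra.ι A M (π (Pi.single j 1)))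
  let L : M →ₗ[A] MvPolynomial (Fin r) A :=
    (Fintype.linearCombination A (MvPolynomial.X : Fin r → MvPolynomial (Fin r) A)) ∘ₗ σ
  let iD : SymmetricAlgebra A M →ₐ[A] MvPolynomial (Fin r) A := SymmetricAlgebra.lift L
  refine finitePresentation_of_retract rD iD ?_
  apply SymmetricAlgebra.algHom_ext
  ext m
  show rD (iD (SymmetricAlgebra.ι A M m)) = SymmetricAlgebra.ι A M m
  rw [SymmetricAlgebra.lift_ι_apply]
  show rD (Fintype.linearCombination A MvPolynomial.X (σ m)) = _
  rw [Fintype.linearCombination_apply, map_sum]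
  simp only [map_smul, rD, MvPolynomial.aeval_X]
  have h1 : ∑ i, σ m i • (Pi.single i (1 : A) : Fin r → A) = σ m := by
    ext j
    simp [Finset.sum_apply, Pi.single_apply]
  have h2 : π (σ m) = m := congr($hσ m)
  calc ∑ x, σ m x • (SymmetricAlgebra.ι A M) (π (Pi.single x 1))
      = SymmetricAlgebra.ι A M (π (∑ x, σ m x • (Pi.single x (1 : A) : Fin r → A))) := by
        simp only [map_sum, map_smul]
    _ = SymmetricAlgebra.ι A M m := by rw [h1, h2]

theorem smooth_sym [Module.Finite A M] [Module.Projective A M] :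
    Algebra.Smooth A (SymmetricAlgebra A M) :=
  ⟨formallySmooth_sym A M, finitePresentation_sym A M⟩

end Smooth

end Groth.Agent.H8.SR
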