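import Mathlib
import Groth.Agent.H8.SR.FibDim
import Groth.Agent.H8.SR.SymBC

/-!
# Local structure of `Sym_A(M)` over a base ring `R`, fibre dimension
-/

set_option autoImplicit false
set_option linter.style.haveILetI false
set_option linter.unusedSectionVars false
universe u

namespace Groth.Agent.H8.SR

open TensorProduct

/-- if `M_r` is free of rank `c` and `r` is invertible in `A'`, then `A' ⊗ M` is free of rank `c` -/
theorem nonempty_basis_baseChange {A : Type u} [CommRing A] {M : Type u} [AddCommGroup M]
    [Module A M] (r : A) (c : ℕ) [Nontrivial (Localization.Away r)]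
    [Module.Free (Localization.Away r) (LocalizedModule (Submonoid.powers r) M)]
    [Module.Finite (Localization.Away r) (LocalizedModule (Submonoid.powers r) M)]
    (hc : Module.finrank (Localization.Away r) (LocalizedModule (Submonoid.powers r) M) = c)
    (A' : Type u) [CommRing A'] [Algebra A A'] (hr : IsUnit (algebraMap A A' r)) :
    Nonempty (Module.Basis (Fin c) A' (A' ⊗[A] M)) := by
  classical
  letI : Algebra (Localization.Away r) A' := (IsLocalization.Away.lift r hr).toAlgebra
  haveI : IsScalarTower A (Localization.Away r) A' :=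
    IsScalarTower.of_algebraMap_eq (fun x => (IsLocalization.Away.lift_eq r hr x).symm)
  let b : Module.Basis (Fin c) (Localization.Away r) (LocalizedModule (Submonoid.powers r) M) :=
    Module.finBasisOfFinrankEq _ _ hc
  let e₁ : Localization.Away r ⊗[A] M ≃ₗ[Localization.Away r]
      LocalizedModule (Submonoid.powers r) M :=
    (LocalizedModule.equivTensorProduct (Submonoid.powers r) M).symm
  let e₂ : A' ⊗[Localization.Away r] (Localization.Away r ⊗[A] M) ≃ₗ[A'] A' ⊗[A] M :=
    AlgebraTensorModule.cancelBaseChange A (Localization.Away r) A' A' M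
  exact ⟨((b.map e₁.symm).baseChange A').map e₂⟩

/-- fibre dimension of a principal localization of a symmetric algebra which is locally a
polynomial ring -/
theorem ringKrullDim_fiber_away_sym_le (R A C' : Type u) [CommRing R] [CommRing A] [CommRing C']
    [Algebra R A] [Algebra A C'] [Algebra R C'] [IsScalarTower R A C']
    (M : Type u) [AddCommGroup M] [Module A M] (ΦA : C' ≃ₐ[A] SymmetricAlgebra A M)
    (t : A) (c₀ : ℕ) (b : Module.Basis (Fin c₀) (Localization.Away t) (Localization.Away t ⊗[A] M))
    (S' : Type u) [CommRing S'] [Algebra R S'] [Algebra.FiniteType R S']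
    (eG : Localization.Away t ≃ₐ[R] S') (N' : ℕ)
    (hS' : ∀ p' : PrimeSpectrum R, ringKrullDim (p'.asIdeal.Fiber S') ≤ (N' : WithBot ℕ∞))
    (p' : PrimeSpectrum R) :
    ringKrullDim (p'.asIdeal.Fiber (Localization.Away (algebraMap A C' t))) ≤
      ((N' + c₀ : ℕ) : WithBot ℕ∞) := by
  let i1 : C' ⊗[A] Localization.Away t ≃ₐ[C'] Localization.Away (algebraMap A C' t) :=
    IsLocalization.Away.tensorEquiv C' t (Localization.Away t)
  let i2 : Localization.Away t ⊗[A] C' ≃ₐ[A] C' ⊗[A] Localization.Away t :=
    Algebra.TensorProduct.comm A (Localization.Away t) C'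
  let i3 : Localization.Away t ⊗[A] C' ≃ₐ[Localization.Away t]
      Localization.Away t ⊗[A] SymmetricAlgebra A M :=
    Algebra.TensorProduct.congr AlgEquiv.refl ΦA
  let i4 : Localization.Away t ⊗[A] SymmetricAlgebra A M ≃ₐ[Localization.Away t]
      MvPolynomial (Fin c₀) (Localization.Away t) :=
    symBaseChangeMvPolynomial (Localization.Away t) M b
  let i5 : MvPolynomial (Fin c₀) (Localization.Away t) ≃ₐ[R] MvPolynomial (Fin c₀) S' :=
    MvPolynomial.mapAlgEquiv (Fin c₀) eG
  let e : Localization.Away (algebraMap A C' t) ≃ₐ[R] MvPolynomial (Fin c₀) S' :=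
    (i1.restrictScalars R).symm.trans ((i2.restrictScalars R).symm.trans
      ((i3.restrictScalars R).trans ((i4.restrictScalars R).trans i5)))
  rw [ringKrullDim_fiber_congr e p']
  exact ringKrullDim_fiber_mvPolynomial_le R S' c₀ N' p' (hS' p')

end Groth.Agent.H8.SR
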