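import Mathlib
import Groth.Prelude.Def_RegImm
import Groth.Agent.Lib.Helper82.RelGCIAway
import Groth.Agent.Lib.Helper82.SyntLocal

/-!
# A global complete intersection presentation of `Sym_A(J/J²)`

Let `A = R[x_1..x_n]/J` with `J = (f_1..f_r)` and `M = J/J²` projective over `A`. We show that
`C = Sym_A(M)` is isomorphic to `R[x, y, z]/(g_1, …, g_r, u z - 1)` (`n + r + 1` variables, `r + 1`
equations).
-/

set_option autoImplicit false
set_option linter.style.haveILetI false
set_option linter.unusedSectionVars false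
universe u

namespace Groth.Agent.H8.SR

open MvPolynomial

section

variable {R : Type u} [CommRing R] {n : ℕ} (J : Ideal (MvPolynomial (Fin n) R)) {r : ℕ}
  (f : Fin r → MvPolynomial (Fin n) R) (hfJ : ∀ j, f j ∈ J)

local notation "Pn" => MvPolynomial (Fin n) R
local notation "A" => MvPolynomial (Fin n) R ⧸ J
local notation "SymC" => SymmetricAlgebra (MvPolynomial (Fin n) R ⧸ J) J.Cotangent
local notation "P" => MvPolynomial (Fin (n + r)) R

/-- the classes of the generators in the conormal module -/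
noncomputable def fbar (j : Fin r) : J.Cotangent := J.toCotangent ⟨f j, hfJ j⟩

variable (r) in
/-- `R[x] → R[x, y]` -/
noncomputable def rho : MvPolynomial (Fin n) R →ₐ[R] MvPolynomial (Fin (n + r)) R :=
  rename (Fin.castAdd r)

variable (R n) in
/-- the variables `y_j` -/
noncomputable def Yv (j : Fin r) : MvPolynomial (Fin (n + r)) R := X (Fin.natAdd n j)

/-- the linear form `Σ v_j y_j` -/
noncomputable def lam (v : Fin r → MvPolynomial (Fin n) R) : MvPolynomial (Fin (n + r)) R :=
  ∑ j, rho r (v j) * Yv R n j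

/-- the element `Σ v̄_j f̄_j` of the conormal module -/
noncomputable def pit (v : Fin r → MvPolynomial (Fin n) R) : J.Cotangent :=
  ∑ j, Ideal.Quotient.mk J (v j) • fbar J f hfJ j

/-- matrix times vector -/
noncomputable def mv (B : Fin r → Fin r → MvPolynomial (Fin n) R) (v : Fin r → MvPolynomial (Fin n) R) :
    Fin r → MvPolynomial (Fin n) R := fun j => ∑ i, B j i * v i

theorem lam_mv (B : Fin r → Fin r → MvPolynomial (Fin n) R) (v : Fin r → MvPolynomial (Fin n) R) :
    lam (mv B v) = ∑ i, rho r (v i) * lam (fun j => B j i) := by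
  unfold lam mv
  simp only [map_sum, map_mul, Finset.sum_mul, Finset.mul_sum]
  rw [Finset.sum_comm]
  refine Finset.sum_congr rfl fun i _ => Finset.sum_congr rfl fun j _ => ?_
  ring

theorem lam_sub (v w : Fin r → MvPolynomial (Fin n) R) :
    lam (fun j => v j - w j) = lam v - lam w := by
  unfold lam
  simp only [map_sub, sub_mul, Finset.sum_sub_distrib]

theorem pit_sub (v w : Fin r → MvPolynomial (Fin n) R) :
    pit J f hfJ (fun j => v j - w j) = pit J f hfJ v - pit J f hfJ w := by
  unfold pit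
  simp only [map_sub, sub_smul, Finset.sum_sub_distrib]

/-- the ring map `R → C` -/
noncomputable def phi0 : R →+* SymC :=
  (algebraMap A SymC).comp (algebraMap R A)

/-- the surjection `R[x, y] → Sym_A(J/J²)` -/
noncomputable def Psi : MvPolynomial (Fin (n + r)) R →+* SymC :=
  eval₂Hom (phi0 J) (Fin.addCases (fun i => algebraMap A SymC (Ideal.Quotient.mk J (X i)))
    (fun j => SymmetricAlgebra.ι A J.Cotangent (fbar J f hfJ j)))

theorem Psi_rho (a : MvPolynomial (Fin n) R) :
    Psi J f hfJ (rho r a) = algebraMap A SymC (Ideal.Quotient.mk J a) := by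
  have : (Psi J f hfJ).comp (rho r).toRingHom =
      (algebraMap A SymC).comp (Ideal.Quotient.mk J) := by
    apply MvPolynomial.ringHom_ext
    · intro x
      simp only [RingHom.comp_apply, AlgHom.toRingHom_eq_coe, RingHom.coe_coe, rho, Psi,
        rename_C, eval₂Hom_C]
      rfl
    · intro i
      simp only [RingHom.comp_apply, AlgHom.toRingHom_eq_coe, RingHom.coe_coe, rho, Psi,
        rename_X, eval₂Hom_X', Fin.addCases_left]
  exact congr($this a)

theorem Psi_Y (j : Fin r) :
    Psi J f hfJ (Yv R n j) = SymmetricAlgebra.ι A J.Cotangent (fbar J f hfJ j) := by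
  simp only [Psi, Yv, eval₂Hom_X', Fin.addCases_right]

theorem Psi_C (x : R) : Psi J f hfJ (C x) = algebraMap A SymC (algebraMap R A x) := by
  simp only [Psi, eval₂Hom_C]
  rfl

theorem Psi_lam (v : Fin r → MvPolynomial (Fin n) R) :
    Psi J f hfJ (lam v) = SymmetricAlgebra.ι A J.Cotangent (pit J f hfJ v) := by
  unfold lam pit
  simp only [map_sum, map_mul, Psi_rho, Psi_Y, map_smul, Algebra.smul_def]

/-- the generators of the conormal module -/
theorem span_fbar (hf : Ideal.span (Set.range f) = J) :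
    Submodule.span A (Set.range (fbar J f hfJ)) = ⊤ := by
  rw [eq_top_iff]
  rintro m -
  obtain ⟨⟨a, ha⟩, rfl⟩ := J.toCotangent_surjective m
  have ha' : a ∈ Ideal.span (Set.range f) := by rw [hf]; exact ha
  obtain ⟨b, hb⟩ := (Ideal.mem_span_range_iff_exists_fun).mp ha'
  have h1 : (⟨a, ha⟩ : J) = ∑ i, b i • (⟨f i, hfJ i⟩ : J) := by
    apply Subtype.ext
    show a = _
    rw [Submodule.coe_sum]
    simp only [Submodule.coe_smul, smul_eq_mul]
    exact hb.symm
  rw [h1, map_sum]
  refine Submodule.sum_mem _ fun i _ => ?_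
  rw [map_smul]
  have h2 : b i • J.toCotangent ⟨f i, hfJ i⟩ =
      Ideal.Quotient.mk J (b i) • J.toCotangent ⟨f i, hfJ i⟩ :=
    (algebraMap_smul A (b i) (J.toCotangent ⟨f i, hfJ i⟩)).symm
  rw [h2]
  exact Submodule.smul_mem _ _ (Submodule.subset_span ⟨i, rfl⟩)

theorem exists_pit_eq (hf : Ideal.span (Set.range f) = J) (m : J.Cotangent) :
    ∃ v : Fin r → MvPolynomial (Fin n) R, pit J f hfJ v = m := by
  have hm : m ∈ Submodule.span A (Set.range (fbar J f hfJ)) := by
    rw [span_fbar J f hfJ hf]; trivial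
  obtain ⟨w, hw⟩ := (Submodule.mem_span_range_iff_exists_fun A).mp hm
  choose v hv using fun j => Ideal.Quotient.mk_surjective (w j)
  refine ⟨v, ?_⟩
  unfold pit
  simp only [hv]
  exact hw

theorem Psi_surjective (hf : Ideal.span (Set.range f) = J) :
    Function.Surjective (Psi J f hfJ) := by
  intro c
  induction c using SymmetricAlgebra.induction with
  | algebraMap a =>
    obtain ⟨a', rfl⟩ := Ideal.Quotient.mk_surjective a
    exact ⟨rho r a', Psi_rho J f hfJ a'⟩
  | ι m =>
    obtain ⟨v, rfl⟩ := exists_pit_eq J f hfJ hf m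
    exact ⟨lam v, Psi_lam J f hfJ v⟩
  | mul a b ha hb =>
    obtain ⟨a', rfl⟩ := ha
    obtain ⟨b', rfl⟩ := hb
    exact ⟨a' * b', map_mul _ _ _⟩
  | add a b ha hb =>
    obtain ⟨a', rfl⟩ := ha
    obtain ⟨b', rfl⟩ := hb
    exact ⟨a' + b', map_add _ _ _⟩

/-- the universal property of the symmetric algebra bounds the kernel of `Psi` -/
theorem ker_Psi_le (hf : Ideal.span (Set.range f) = J) (𝔤 : Ideal (MvPolynomial (Fin (n + r)) R))
    (h1 : ∀ k, rho r (f k) ∈ 𝔤)
    (h2 : ∀ v : Fin r → MvPolynomial (Fin n) R, pit J f hfJ v = 0 → lam v ∈ 𝔤) :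
    RingHom.ker (Psi J f hfJ) ≤ 𝔤 := by
  classical
  have hJ𝔤 : ∀ a ∈ J, rho r a ∈ 𝔤 := by
    intro a ha
    have : J ≤ 𝔤.comap (rho r).toRingHom := by
      rw [← hf, Ideal.span_le]
      rintro _ ⟨k, rfl⟩
      exact h1 k
    exact this ha
  let φA : A →+* (MvPolynomial (Fin (n + r)) R ⧸ 𝔤) :=
    Ideal.Quotient.lift J ((Ideal.Quotient.mk 𝔤).comp (rho r).toRingHom) (fun a ha => by
      rw [RingHom.comp_apply]
      exact Ideal.Quotient.eq_zero_iff_mem.mpr (hJ𝔤 a ha))
  letI : Algebra A (MvPolynomial (Fin (n + r)) R ⧸ 𝔤) := φA.toAlgebra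
  have hφA : ∀ a : MvPolynomial (Fin n) R,
      algebraMap A (MvPolynomial (Fin (n + r)) R ⧸ 𝔤) (Ideal.Quotient.mk J a) =
        Ideal.Quotient.mk 𝔤 (rho r a) := fun a => rfl
  let L₀ : (Fin r → A) →ₗ[A] (MvPolynomial (Fin (n + r)) R ⧸ 𝔤) :=
    Fintype.linearCombination A (fun j => Ideal.Quotient.mk 𝔤 (Yv R n j))
  let π : (Fin r → A) →ₗ[A] J.Cotangent := Fintype.linearCombination A (fbar J f hfJ)
  have hπ : Function.Surjective π := by
    rw [← LinearMap.range_eq_top, Fintype.range_linearCombination]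
    exact span_fbar J f hfJ hf
  have hle : LinearMap.ker π ≤ LinearMap.ker L₀ := by
    intro w hw
    rw [LinearMap.mem_ker] at hw ⊢
    choose v hv using fun j => Ideal.Quotient.mk_surjective (w j)
    have hp : pit J f hfJ v = 0 := by
      unfold pit
      simp only [hv]
      rw [← hw]
      exact (Fintype.linearCombination_apply A _ w).symm
    have h3 := h2 v hp
    show Fintype.linearCombination A (fun j => Ideal.Quotient.mk 𝔤 (Yv R n j)) w = 0
    rw [Fintype.linearCombination_apply]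
    have h4 : ∑ i, w i • Ideal.Quotient.mk 𝔤 (Yv R n i) = Ideal.Quotient.mk 𝔤 (lam v) := by
      unfold lam
      rw [map_sum]
      refine Finset.sum_congr rfl fun i _ => ?_
      rw [Algebra.smul_def, ← hv i, hφA, map_mul]
    rw [h4]
    exact Ideal.Quotient.eq_zero_iff_mem.mpr h3
  let Lbar : J.Cotangent →ₗ[A] (MvPolynomial (Fin (n + r)) R ⧸ 𝔤) :=
    (Submodule.liftQ (LinearMap.ker π) L₀ hle) ∘ₗ
      (π.quotKerEquivOfSurjective hπ).symm.toLinearMap
  have hLbar : ∀ w, Lbar (π w) = L₀ w := by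
    intro w
    show (Submodule.liftQ (LinearMap.ker π) L₀ hle)
      ((π.quotKerEquivOfSurjective hπ).symm (π w)) = L₀ w
    have : (π.quotKerEquivOfSurjective hπ).symm (π w) = Submodule.Quotient.mk w := by
      rw [LinearEquiv.symm_apply_eq]
      rfl
    rw [this, Submodule.liftQ_apply]
  have hLbar_f : ∀ j, Lbar (fbar J f hfJ j) = Ideal.Quotient.mk 𝔤 (Yv R n j) := by
    intro j
    have h5 : π (Pi.single j 1) = fbar J f hfJ j := by
      show Fintype.linearCombination A (fbar J f hfJ) (Pi.single j 1) = _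
      rw [Fintype.linearCombination_apply_single, one_smul]
    have h6 : L₀ (Pi.single j 1) = Ideal.Quotient.mk 𝔤 (Yv R n j) := by
      show Fintype.linearCombination A _ (Pi.single j 1) = _
      rw [Fintype.linearCombination_apply_single, one_smul]
    rw [← h5, hLbar, h6]
  let Θ : SymC →ₐ[A] (MvPolynomial (Fin (n + r)) R ⧸ 𝔤) := SymmetricAlgebra.lift Lbar
  have hΘ : (Θ : SymC →+* _).comp (Psi J f hfJ) = Ideal.Quotient.mk 𝔤 := by
    apply MvPolynomial.ringHom_ext
    · intro x
      rw [RingHom.comp_apply, Psi_C]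
      show Θ (algebraMap A SymC (algebraMap R A x)) = _
      rw [AlgHom.commutes]
      have : algebraMap R A x = Ideal.Quotient.mk J (C x) := rfl
      rw [this, hφA]
      simp [rho]
    · intro i
      rw [RingHom.comp_apply]
      refine Fin.addCases (fun i' => ?_) (fun j => ?_) i
      · have h7 : (X (Fin.castAdd r i') : MvPolynomial (Fin (n + r)) R) = rho r (X i') := by
          simp [rho]
        rw [h7, Psi_rho]
        show Θ (algebraMap A SymC _) = _
        rw [AlgHom.commutes, hφA]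
      · have h8 : (X (Fin.natAdd n j) : MvPolynomial (Fin (n + r)) R) = Yv R n j := rfl
        rw [h8, Psi_Y]
        show Θ (SymmetricAlgebra.ι A J.Cotangent (fbar J f hfJ j)) = _
        rw [SymmetricAlgebra.lift_ι_apply, hLbar_f]
  intro z hz
  have h9 : Ideal.Quotient.mk 𝔤 z = 0 := by
    rw [← hΘ, RingHom.comp_apply, (RingHom.mem_ker).mp hz, map_zero]
  exact Ideal.Quotient.eq_zero_iff_mem.mp h9

theorem rho_mem_ker (a : MvPolynomial (Fin n) R) (ha : a ∈ J) :
    rho r a ∈ RingHom.ker (Psi J f hfJ) := by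
  rw [RingHom.mem_ker, Psi_rho, Ideal.Quotient.eq_zero_iff_mem.mpr ha, map_zero]

theorem lam_mem_ker (v : Fin r → MvPolynomial (Fin n) R) (hv : pit J f hfJ v = 0) :
    lam v ∈ RingHom.ker (Psi J f hfJ) := by
  rw [RingHom.mem_ker, Psi_lam, hv, map_zero]

/-- linear forms with coefficients in `J` -/
theorem lam_mem_of_forall_mem (𝔤 : Ideal (MvPolynomial (Fin (n + r)) R))
    (h𝔤 : ∀ a ∈ J, rho r a ∈ 𝔤) (z : Fin r → MvPolynomial (Fin n) R) (hz : ∀ j, z j ∈ J) :
    lam z ∈ 𝔤 := by
  unfold lam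
  exact Ideal.sum_mem _ fun j _ => Ideal.mul_mem_right _ _ (h𝔤 _ (hz j))

section Split

variable (σ : J.Cotangent →ₗ[MvPolynomial (Fin n) R ⧸ J] (Fin r → MvPolynomial (Fin n) R ⧸ J))
  (hσ : ∀ m : J.Cotangent, ∑ i, σ m i • fbar J f hfJ i = m)
  (et : Fin r → Fin r → MvPolynomial (Fin n) R)
  (het : ∀ i j, Ideal.Quotient.mk J (et i j) = σ (fbar J f hfJ j) i)

/-- the matrix `W = 1 - Ẽ` -/
noncomputable def Wm (i j : Fin r) : MvPolynomial (Fin n) R := (if i = j then 1 else 0) - et i j

theorem mv_Wm (v : Fin r → MvPolynomial (Fin n) R) (j : Fin r) :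
    mv (Wm et) v j = v j - mv et v j := by
  classical
  unfold mv Wm
  simp only [sub_mul, Finset.sum_sub_distrib, ite_mul, one_mul, zero_mul, Finset.sum_ite_eq,
    Finset.mem_univ, if_true]

include hσ het in
theorem pit_mv_et (v : Fin r → MvPolynomial (Fin n) R) :
    pit J f hfJ (mv et v) = pit J f hfJ v := by
  unfold pit mv
  simp only [map_sum, map_mul, het, Finset.sum_smul, mul_smul]
  rw [Finset.sum_comm]
  refine Finset.sum_congr rfl fun i _ => ?_
  have h1 : ∑ x, σ (fbar J f hfJ i) x • Ideal.Quotient.mk J (v i) • fbar J f hfJ x =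
      Ideal.Quotient.mk J (v i) • ∑ x, σ (fbar J f hfJ i) x • fbar J f hfJ x := by
    rw [Finset.smul_sum]
    refine Finset.sum_congr rfl fun x _ => ?_
    rw [smul_comm]
  rw [h1, hσ]

include hσ het in
theorem pit_mv_Wm (v : Fin r → MvPolynomial (Fin n) R) : pit J f hfJ (mv (Wm et) v) = 0 := by
  have : mv (Wm et) v = fun j => v j - mv et v j := funext fun j => mv_Wm et v j
  rw [this, pit_sub, pit_mv_et J f hfJ σ hσ et het, sub_self]

include het in
theorem mv_et_mem (v : Fin r → MvPolynomial (Fin n) R) (hv : pit J f hfJ v = 0) (j : Fin r) :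
    mv et v j ∈ J := by
  rw [← Ideal.Quotient.eq_zero_iff_mem]
  unfold mv
  simp only [map_sum, map_mul, het]
  have h1 : ∑ x, σ (fbar J f hfJ x) j * Ideal.Quotient.mk J (v x) =
      σ (pit J f hfJ v) j := by
    unfold pit
    simp only [map_sum, map_smul, Finset.sum_apply, Pi.smul_apply, smul_eq_mul]
    refine Finset.sum_congr rfl fun x _ => ?_
    ring
  rw [h1, hv, map_zero]
  rfl

/-- the standard basis vectors -/
noncomputable def ek (k : Fin r) : Fin r → MvPolynomial (Fin n) R := fun i => if i = k then 1 else 0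

theorem mv_ek (B : Fin r → Fin r → MvPolynomial (Fin n) R) (k : Fin r) :
    mv B (ek k) = fun j => B j k := by
  classical
  funext j
  unfold mv ek
  simp only [mul_ite, mul_one, mul_zero, Finset.sum_ite_eq', Finset.mem_univ, if_true]

/-- the linear forms given by the columns of `W` -/
noncomputable def ell (m : Fin r) : MvPolynomial (Fin (n + r)) R := lam (fun j => Wm et j m)

/-- the linear forms given by the columns of `W²` -/
noncomputable def ell' (i : Fin r) : MvPolynomial (Fin (n + r)) R :=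
  lam (mv (Wm et) (fun m => Wm et m i))

/-- the global generators -/
noncomputable def gen (i : Fin r) : MvPolynomial (Fin (n + r)) R := rho r (f i) + ell' et i

include hσ het in
theorem pit_col_Wm (m : Fin r) : pit J f hfJ (fun j => Wm et j m) = 0 := by
  rw [← mv_ek (Wm et) m]
  exact pit_mv_Wm J f hfJ σ hσ et het _

include hσ het in
theorem ell_mem_ker (m : Fin r) : ell et m ∈ RingHom.ker (Psi J f hfJ) :=
  lam_mem_ker J f hfJ _ (pit_col_Wm J f hfJ σ hσ et het m)

theorem ell'_eq (i : Fin r) : ell' et i = ∑ m, rho r (Wm et m i) * ell et m := by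
  unfold ell' ell
  rw [lam_mv]

include hσ het in
theorem ell'_mem_ker (i : Fin r) : ell' et i ∈ RingHom.ker (Psi J f hfJ) := by
  rw [ell'_eq]
  exact Ideal.sum_mem _ fun m _ => Ideal.mul_mem_left _ _ (ell_mem_ker J f hfJ σ hσ et het m)

include hσ het in
theorem gen_mem_ker (i : Fin r) : gen f et i ∈ RingHom.ker (Psi J f hfJ) :=
  Ideal.add_mem _ (rho_mem_ker J f hfJ _ (hfJ i)) (ell'_mem_ker J f hfJ σ hσ et het i)

include hσ het in
/-- first description of the kernel -/
theorem ker_Psi_le_span (hf : Ideal.span (Set.range f) = J) :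
    RingHom.ker (Psi J f hfJ) ≤
      Ideal.span (Set.range (fun k => rho r (f k)) ∪ Set.range (ell et)) := by
  set 𝔤₁ := Ideal.span (Set.range (fun k => rho r (f k)) ∪ Set.range (ell et)) with h𝔤₁
  have h1 : ∀ k, rho r (f k) ∈ 𝔤₁ := fun k => Ideal.subset_span (Or.inl ⟨k, rfl⟩)
  have hJ𝔤 : ∀ a ∈ J, rho r a ∈ 𝔤₁ := by
    intro a ha
    have : J ≤ 𝔤₁.comap (rho r).toRingHom := by
      rw [← hf, Ideal.span_le]
      rintro _ ⟨k, rfl⟩
      exact h1 k
    exact this ha
  refine ker_Psi_le J f hfJ hf 𝔤₁ h1 fun v hv => ?_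
  have h2 : lam v = lam (mv (Wm et) v) + lam (mv et v) := by
    have : mv (Wm et) v = fun j => v j - mv et v j := funext fun j => mv_Wm et v j
    rw [this, lam_sub]
    ring
  rw [h2]
  refine Ideal.add_mem _ ?_ ?_
  · rw [lam_mv]
    exact Ideal.sum_mem _ fun i _ => Ideal.mul_mem_left _ _ (Ideal.subset_span (Or.inr ⟨i, rfl⟩))
  · exact lam_mem_of_forall_mem J 𝔤₁ hJ𝔤 _ (fun j => mv_et_mem J f hfJ σ et het v hv j)

include hσ het in
theorem ker_Psi_eq_span (hf : Ideal.span (Set.range f) = J) :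
    RingHom.ker (Psi J f hfJ) =
      Ideal.span (Set.range (fun k => rho r (f k)) ∪ Set.range (ell et)) := by
  apply le_antisymm (ker_Psi_le_span J f hfJ σ hσ et het hf)
  rw [Ideal.span_le]
  rintro _ (⟨k, rfl⟩ | ⟨m, rfl⟩)
  · exact rho_mem_ker J f hfJ _ (hfJ k)
  · exact ell_mem_ker J f hfJ σ hσ et het m

include hσ het in
theorem ker_Psi_fg (hf : Ideal.span (Set.range f) = J) : (RingHom.ker (Psi J f hfJ)).FG := by
  classical
  rw [ker_Psi_eq_span J f hfJ σ hσ et het hf]
  refine ⟨(Finset.univ.image fun k => rho r (f k)) ∪ (Finset.univ.image (ell et)), ?_⟩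
  congr 1
  ext x
  simp

include hσ het in
/-- `J' ⊆ (g) + J'²` -/
theorem ker_Psi_le_gen (hf : Ideal.span (Set.range f) = J) :
    RingHom.ker (Psi J f hfJ) ≤ Ideal.span (Set.range (gen f et)) ⊔
      RingHom.ker (Psi J f hfJ) * RingHom.ker (Psi J f hfJ) := by
  set J' := RingHom.ker (Psi J f hfJ) with hJ'
  set 𝔤 := Ideal.span (Set.range (gen f et)) ⊔ J' * J' with h𝔤
  have hgen : ∀ i, gen f et i ∈ 𝔤 := fun i =>
    Ideal.mem_sup_left (Ideal.subset_span ⟨i, rfl⟩)
  have hsq : ∀ x ∈ J', ∀ y ∈ J', x * y ∈ 𝔤 := fun x hx y hy =>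
    Ideal.mem_sup_right (Ideal.mul_mem_mul hx hy)
  -- `ρ(J²) ⊆ J'²`
  have hJsq : ∀ a ∈ J ^ 2, rho r a ∈ 𝔤 := by
    intro a ha
    rw [pow_two] at ha
    refine Submodule.mul_induction_on ha ?_ ?_
    · intro x hx y hy
      rw [map_mul]
      exact hsq _ (rho_mem_ker J f hfJ x hx) _ (rho_mem_ker J f hfJ y hy)
    · intro x y hx hy
      rw [map_add]
      exact Ideal.add_mem _ hx hy
  -- (c3)
  have h1 : ∀ k, rho r (f k) ∈ 𝔤 := by
    intro k
    -- (c3a)
    have ha : ∑ i, et i k * f i - f k ∈ J ^ 2 := by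
      have hmem : ∑ i, et i k * f i - f k ∈ J :=
        Ideal.sub_mem _ (Ideal.sum_mem _ fun i _ => Ideal.mul_mem_left _ _ (hfJ i)) (hfJ k)
      rw [← Ideal.toCotangent_eq_zero J ⟨_, hmem⟩]
      have h3 : (⟨∑ i, et i k * f i - f k, hmem⟩ : J) =
          ∑ i, et i k • (⟨f i, hfJ i⟩ : J) - ⟨f k, hfJ k⟩ := by
        apply Subtype.ext
        simp [Submodule.coe_sum]
      rw [h3, map_sub, map_sum]
      have h4 : ∀ i, J.toCotangent (et i k • (⟨f i, hfJ i⟩ : J)) =
          σ (fbar J f hfJ k) i • fbar J f hfJ i := by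
        intro i
        rw [map_smul, ← het i k]
        exact (algebraMap_smul (MvPolynomial (Fin n) R ⧸ J) (et i k)
          (J.toCotangent ⟨f i, hfJ i⟩)).symm
      simp only [h4]
      rw [hσ (fbar J f hfJ k)]
      exact sub_self _
    -- (c3b)
    have hb : ∑ i, rho r (et i k) * ell' et i ∈ 𝔤 := by
      have h5 : ∑ i, rho r (et i k) * ell' et i =
          ∑ m, rho r (mv (Wm et) (fun i => et i k) m) * ell et m := by
        simp only [ell'_eq, Finset.mul_sum]
        rw [Finset.sum_comm]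
        refine Finset.sum_congr rfl fun m _ => ?_
        unfold mv
        rw [map_sum, Finset.sum_mul]
        refine Finset.sum_congr rfl fun i _ => ?_
        rw [map_mul]
        ring
      rw [h5]
      refine Ideal.sum_mem _ fun m _ => hsq _ (rho_mem_ker J f hfJ _ ?_) _
        (ell_mem_ker J f hfJ σ hσ et het m)
      -- `u m ∈ J`
      have h6 : pit J f hfJ (fun i => et i k - ek k i) = 0 := by
        rw [pit_sub, ← mv_ek et k, pit_mv_et J f hfJ σ hσ et het, sub_self]
      have h7 := mv_et_mem J f hfJ σ et het _ h6 m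
      rw [mv_Wm]
      have h8 : mv et (fun i => et i k - ek k i) m = mv et (fun i => et i k) m - et m k := by
        have : mv et (ek k) m = et m k := congrFun (mv_ek et k) m
        rw [← this]
        unfold mv
        simp only [mul_sub, Finset.sum_sub_distrib]
      rw [h8] at h7
      have : et m k - mv et (fun i => et i k) m = -(mv et (fun i => et i k) m - et m k) := by ring
      rw [this]
      exact neg_mem h7
    have hc : ∑ i, rho r (et i k) * gen f et i =
        rho r (f k) + rho r (∑ i, et i k * f i - f k) + ∑ i, rho r (et i k) * ell' et i := by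
      unfold gen
      simp only [mul_add, Finset.sum_add_distrib, map_sub, map_sum, map_mul]
      ring
    have hd : rho r (f k) = ∑ i, rho r (et i k) * gen f et i -
        rho r (∑ i, et i k * f i - f k) - ∑ i, rho r (et i k) * ell' et i := by
      rw [hc]; ring
    rw [hd]
    exact Ideal.sub_mem _ (Ideal.sub_mem _
      (Ideal.sum_mem _ fun i _ => Ideal.mul_mem_left _ _ (hgen i)) (hJsq _ ha)) hb
  have hJ𝔤 : ∀ a ∈ J, rho r a ∈ 𝔤 := by
    intro a ha
    have : J ≤ 𝔤.comap (rho r).toRingHom := by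
      rw [← hf, Ideal.span_le]
      rintro _ ⟨k, rfl⟩
      exact h1 k
    exact this ha
  have h2 : ∀ i, ell' et i ∈ 𝔤 := by
    intro i
    have : ell' et i = gen f et i - rho r (f i) := by unfold gen; ring
    rw [this]
    exact Ideal.sub_mem _ (hgen i) (h1 i)
  have h3 : ∀ m, ell et m ∈ 𝔤 := by
    intro m
    -- `ell m = ell' m + lam (Ẽ col_m)`
    have h9 : ell et m = ell' et m + lam (mv et (fun j => Wm et j m)) := by
      unfold ell ell'
      have : mv (Wm et) (fun j => Wm et j m) =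
          fun j => Wm et j m - mv et (fun j => Wm et j m) j :=
        funext fun j => mv_Wm et _ j
      rw [this, lam_sub]
      ring
    rw [h9]
    refine Ideal.add_mem _ (h2 m) (lam_mem_of_forall_mem J 𝔤 hJ𝔤 _ fun j => ?_)
    exact mv_et_mem J f hfJ σ et het _ (pit_col_Wm J f hfJ σ hσ et het m) j
  rw [hJ', ker_Psi_eq_span J f hfJ σ hσ et het hf, Ideal.span_le]
  rintro _ (⟨k, rfl⟩ | ⟨m, rfl⟩)
  · exact h1 k
  · exact h3 m

end Split

open Groth.Agent.Lib.Helper82.RelGCIAway in
open scoped Pointwise in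
include hfJ in
/-- `Sym_A(J/J²)` is presented by `r + 1` equations in `n + r + 1` variables -/
theorem exists_presentation_sym (hf : Ideal.span (Set.range f) = J)
    [Module.Projective (MvPolynomial (Fin n) R ⧸ J) J.Cotangent] :
    ∃ (g : Fin r → MvPolynomial (Fin (n + r)) R) (u : MvPolynomial (Fin (n + r)) R)
      (Φ : Synt.RelGCIRing R (n + r + 1) (r + 1) (F' R (n + r) r g u) ≃+* SymC),
      ∀ x : R, Φ (algebraMap R _ x) = algebraMap A SymC (algebraMap R A x) := by
  classical
  let π : (Fin r → A) →ₗ[A] J.Cotangent := Fintype.linearCombination A (fbar J f hfJ)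
  have hπ : Function.Surjective π := by
    rw [← LinearMap.range_eq_top, Fintype.range_linearCombination]
    exact span_fbar J f hfJ hf
  obtain ⟨σ, hσ0⟩ := Module.projective_lifting_property π LinearMap.id hπ
  have hσ : ∀ m : J.Cotangent, ∑ i, σ m i • fbar J f hfJ i = m := by
    intro m
    have h1 : π (σ m) = m := congr($hσ0 m)
    have h2 : π (σ m) = ∑ i, σ m i • fbar J f hfJ i :=
      Fintype.linearCombination_apply A (fbar J f hfJ) (σ m)
    rw [← h2, h1]
  choose et het using fun i j => Ideal.Quotient.mk_surjective (σ (fbar J f hfJ j) i)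
  set J' := RingHom.ker (Psi J f hfJ) with hJ'
  have hfg : J'.FG := ker_Psi_fg J f hfJ σ hσ et het hf
  have hle : J' ≤ Ideal.span (Set.range (gen f et)) ⊔ J' • J' := by
    rw [smul_eq_mul]
    exact ker_Psi_le_gen J f hfJ σ hσ et het hf
  obtain ⟨u, hu1, hu2⟩ := Submodule.exists_sub_one_mem_and_smul_le_of_fg_of_le_sup
    (I := J') (N := Ideal.span (Set.range (gen f et))) (N' := J') hfg (le_refl J') hle
  have hu : ∀ a ∈ J', u * a ∈ Ideal.span (Set.range (gen f et)) := fun a ha =>
    hu2 (Submodule.smul_mem_pointwise_smul a u J' ha)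
  have hgJ' : Ideal.span (Set.range (gen f et)) ≤ J' := by
    rw [Ideal.span_le]
    rintro _ ⟨i, rfl⟩
    exact gen_mem_ker J f hfJ σ hσ et het i
  obtain ⟨e1⟩ := Groth.Agent.Lib.Helper82.SyntLocal.nonempty_algEquiv_away_quotient R J'
    (Ideal.span (Set.range (gen f et))) hgJ' u hu
  let e2 := awayEquiv R (n + r) r (gen f et) u
  have hunit : IsUnit (Ideal.Quotient.mk J' u) := by
    have : Ideal.Quotient.mk J' u = 1 := by
      rw [← sub_eq_zero, ← map_one (Ideal.Quotient.mk J'), ← map_sub]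
      exact Ideal.Quotient.eq_zero_iff_mem.mpr hu1
    rw [this]
    exact isUnit_one
  let e0 : (MvPolynomial (Fin (n + r)) R ⧸ J') ≃ₐ[MvPolynomial (Fin (n + r)) R ⧸ J']
      Localization.Away (Ideal.Quotient.mk J' u) :=
    IsLocalization.atUnit _ _ (Ideal.Quotient.mk J' u) hunit
  let e00 : (MvPolynomial (Fin (n + r)) R ⧸ J') ≃+* SymC :=
    RingHom.quotientKerEquivOfSurjective (Psi_surjective J f hfJ hf)
  refine ⟨gen f et, u, e2.symm.toRingEquiv.trans (e1.symm.toRingEquiv.trans
    (e0.symm.toRingEquiv.trans e00)), fun x => ?_⟩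
  show e00 (e0.symm (e1.symm (e2.symm (algebraMap R _ x)))) = _
  rw [AlgEquiv.commutes, AlgEquiv.commutes,
    IsScalarTower.algebraMap_apply R (MvPolynomial (Fin (n + r)) R ⧸ J')
      (Localization.Away (Ideal.Quotient.mk J' u)), AlgEquiv.commutes]
  have : algebraMap R (MvPolynomial (Fin (n + r)) R ⧸ J') x =
      Ideal.Quotient.mk J' (C x) := rfl
  rw [this]
  show Psi J f hfJ (C x) = _
  exact Psi_C J f hfJ x

end

end Groth.Agent.H8.SR
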