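import Mathlib
import Groth.Agent.H8.SR.FibDim
import Groth.Agent.H8.SR.SymBC
import Groth.Agent.H8.SR.Pres
import Groth.Agent.H8.SR.Local
import Groth.Agent.H8.SL.T0Local
import Groth.Agent.S9147

/-!
# Syntomic algebras are smooth retracts of relative global complete intersections (Stacks 07CF)
-/

set_option autoImplicit false
set_option linter.style.haveILetI false
set_option linter.unusedSectionVars false
universe u

namespace Groth.Agent.H8.SR

open TensorProduct
open Groth.Agent.Lib.Helper82.RelGCIAway Groth.Agent.Lib.Helper82.RelGCIDescent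
open Groth.Agent.H8.SL

section

variable (R : Type u) [CommRing R] (n : ℕ) (J : Ideal (MvPolynomial (Fin n) R))

/-- fibre dimension bound for a relative global complete intersection -/
theorem ringKrullDim_fiber_relGCI_le {n' c' : ℕ} (G : Fin c' → MvPolynomial (Fin n') R)
    (hG : Synt.IsRelGCI R n' c' G) (p' : PrimeSpectrum R) :
    ringKrullDim (p'.asIdeal.Fiber (Synt.RelGCIRing R n' c' G)) ≤
      ((n' - c' : ℕ) : WithBot ℕ∞) := by
  by_cases hnt : Nontrivial (p'.asIdeal.Fiber (Synt.RelGCIRing R n' c' G))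
  · exact (hG p' hnt).2.le
  · rw [not_nontrivial_iff_subsingleton] at hnt
    rw [ringKrullDim_eq_bot_of_subsingleton]
    exact bot_le

theorem exists_smooth_retract_quotient (hJ : J.FG)
    (hsyn : Synt.IsSyntomic R (MvPolynomial (Fin n) R ⧸ J)) :
    ∃ (N c : ℕ) (F : Fin c → MvPolynomial (Fin N) R), Synt.IsRelGCI R N c F ∧
      ∃ (_ : Algebra (MvPolynomial (Fin n) R ⧸ J) (Synt.RelGCIRing R N c F))
        (_ : IsScalarTower R (MvPolynomial (Fin n) R ⧸ J) (Synt.RelGCIRing R N c F)),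
        Algebra.Smooth (MvPolynomial (Fin n) R ⧸ J) (Synt.RelGCIRing R N c F) ∧
        ∃ ρ : Synt.RelGCIRing R N c F →ₐ[R] (MvPolynomial (Fin n) R ⧸ J),
          ∀ a, ρ (algebraMap (MvPolynomial (Fin n) R ⧸ J) (Synt.RelGCIRing R N c F) a) = a := by
  classical
  obtain ⟨r, f, hf⟩ := Submodule.fg_iff_exists_fin_generating_family.mp hJ
  have hf' : Ideal.span (Set.range f) = J := hf
  have hfJ : ∀ j, f j ∈ J := fun j => by rw [← hf']; exact Ideal.subset_span ⟨j, rfl⟩
  obtain ⟨hMfin, hMproj⟩ := cotangent_finite_projective' R n J hJ hsyn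
  obtain ⟨g, u, Φ, hΦ⟩ := exists_presentation_sym J f hfJ hf'
  refine ⟨n + r + 1, r + 1, F' R (n + r) r g u, ?_⟩
  letI algAC : Algebra (MvPolynomial (Fin n) R ⧸ J)
      (Synt.RelGCIRing R (n + r + 1) (r + 1) (F' R (n + r) r g u)) :=
    ((Φ.symm : SymmetricAlgebra (MvPolynomial (Fin n) R ⧸ J) J.Cotangent →+* _).comp
      (algebraMap (MvPolynomial (Fin n) R ⧸ J)
        (SymmetricAlgebra (MvPolynomial (Fin n) R ⧸ J) J.Cotangent))).toAlgebra
  have halg : ∀ a : MvPolynomial (Fin n) R ⧸ J,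
      algebraMap (MvPolynomial (Fin n) R ⧸ J)
        (Synt.RelGCIRing R (n + r + 1) (r + 1) (F' R (n + r) r g u)) a =
      Φ.symm (algebraMap (MvPolynomial (Fin n) R ⧸ J)
        (SymmetricAlgebra (MvPolynomial (Fin n) R ⧸ J) J.Cotangent) a) := fun a => rfl
  haveI tower : IsScalarTower R (MvPolynomial (Fin n) R ⧸ J)
      (Synt.RelGCIRing R (n + r + 1) (r + 1) (F' R (n + r) r g u)) :=
    IsScalarTower.of_algebraMap_eq (R := R) (S := MvPolynomial (Fin n) R ⧸ J)
      (A := Synt.RelGCIRing R (n + r + 1) (r + 1) (F' R (n + r) r g u)) fun x => by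
      rw [halg, ← hΦ, RingEquiv.symm_apply_apply]
  let ΦA : Synt.RelGCIRing R (n + r + 1) (r + 1) (F' R (n + r) r g u) ≃ₐ[MvPolynomial (Fin n) R ⧸ J]
      SymmetricAlgebra (MvPolynomial (Fin n) R ⧸ J) J.Cotangent :=
    AlgEquiv.ofRingEquiv (f := Φ) (fun a => by rw [halg, RingEquiv.apply_symm_apply])
  haveI : Algebra.Smooth (MvPolynomial (Fin n) R ⧸ J)
      (SymmetricAlgebra (MvPolynomial (Fin n) R ⧸ J) J.Cotangent) :=
    smooth_sym (MvPolynomial (Fin n) R ⧸ J) J.Cotangent
  have hsm : Algebra.Smooth (MvPolynomial (Fin n) R ⧸ J)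
      (Synt.RelGCIRing R (n + r + 1) (r + 1) (F' R (n + r) r g u)) :=
    Algebra.Smooth.of_equiv
      (A := SymmetricAlgebra (MvPolynomial (Fin n) R ⧸ J) J.Cotangent) ΦA.symm
  let ρ : Synt.RelGCIRing R (n + r + 1) (r + 1) (F' R (n + r) r g u) →ₐ[R]
      (MvPolynomial (Fin n) R ⧸ J) :=
    ((SymmetricAlgebra.algebraMapInv :
      SymmetricAlgebra (MvPolynomial (Fin n) R ⧸ J) J.Cotangent →ₐ[MvPolynomial (Fin n) R ⧸ J]
        (MvPolynomial (Fin n) R ⧸ J)).comp ΦA.toAlgHom).restrictScalars R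
  refine ⟨?_, algAC, tower, hsm, ρ, fun a => ?_⟩
  · refine isRelGCI_of_forall_mem_fibLocus R (n + r + 1) (r + 1) _ (by omega) (fun q => ?_)
    have hN : n + r + 1 - (r + 1) = n := by omega
    rw [hN]
    let qA : PrimeSpectrum (MvPolynomial (Fin n) R ⧸ J) :=
      q.comap (algebraMap (MvPolynomial (Fin n) R ⧸ J)
        (Synt.RelGCIRing R (n + r + 1) (r + 1) (F' R (n + r) r g u)))
    obtain ⟨c₀, tstar, hc₀n, htq, hrk, hmodel⟩ := exists_local_model R n J hJ hsyn qA.asIdeal
    have hrq : Module.rankAtStalk J.Cotangent qA = c₀ := hrk qA htq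
    haveI : Module.FinitePresentation (MvPolynomial (Fin n) R ⧸ J) J.Cotangent :=
      Module.finitePresentation_of_projective _ _
    haveI : Module.Free (Localization.AtPrime qA.asIdeal)
        (LocalizedModule qA.asIdeal.primeCompl J.Cotangent) :=
      @Module.free_of_flat_of_isLocalRing (Localization.AtPrime qA.asIdeal)
        (LocalizedModule qA.asIdeal.primeCompl J.Cotangent) _ _ _ _ _ _
    obtain ⟨r₁, hr₁S, hfree, hfr⟩ := Module.FinitePresentation.exists_free_localizedModule_powers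
      qA.asIdeal.primeCompl (LocalizedModule.mkLinearMap qA.asIdeal.primeCompl J.Cotangent)
      (Localization.AtPrime qA.asIdeal)
    have hfr' : Module.finrank (Localization.Away r₁)
        (LocalizedModule (Submonoid.powers r₁) J.Cotangent) = c₀ := by
      rw [← hrq]
      exact hfr
    haveI : Nontrivial (Localization.Away r₁) :=
      (show Localization.Away r₁ →+* Localization.AtPrime qA.asIdeal from
        IsLocalization.map (M := .powers r₁) (T := qA.asIdeal.primeCompl) _
          (RingHom.id _) (Submonoid.powers_le.mpr hr₁S)).domain_nontrivial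
    obtain ⟨n', c'', G, hG, hc'', hdim, ⟨eG⟩⟩ := hmodel r₁
    have ht : tstar * r₁ ∉ qA.asIdeal := by
      intro hmem
      rcases qA.isPrime.mem_or_mem hmem with h1 | h1
      · exact htq h1
      · exact hr₁S h1
    have hunit : IsUnit (algebraMap (MvPolynomial (Fin n) R ⧸ J)
        (Localization.Away (tstar * r₁)) r₁) :=
      IsLocalization.Away.isUnit_of_dvd (x := tstar * r₁) ⟨tstar, mul_comm _ _⟩
    obtain ⟨b⟩ := nonempty_basis_baseChange r₁ c₀ hfr' (Localization.Away (tstar * r₁)) hunit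
    have hfib := ringKrullDim_fiber_away_sym_le R (MvPolynomial (Fin n) R ⧸ J)
      (Synt.RelGCIRing R (n + r + 1) (r + 1) (F' R (n + r) r g u)) J.Cotangent ΦA (tstar * r₁) c₀ b
      (Synt.RelGCIRing R n' c'' G) eG (n' - c'') (ringKrullDim_fiber_relGCI_le R G hG)
    have harith : n' - c'' + c₀ = n := by omega
    refine mem_fibLocus_of_away R _ n q (algebraMap (MvPolynomial (Fin n) R ⧸ J)
        (Synt.RelGCIRing R (n + r + 1) (r + 1) (F' R (n + r) r g u)) (tstar * r₁)) ?_ (fun p' => ?_)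
    · exact ht
    · have h5 := hfib p'
      rw [harith] at h5
      exact h5
  · show (SymmetricAlgebra.algebraMapInv :
      SymmetricAlgebra (MvPolynomial (Fin n) R ⧸ J) J.Cotangent →ₐ[MvPolynomial (Fin n) R ⧸ J]
        (MvPolynomial (Fin n) R ⧸ J)) (ΦA (algebraMap _ _ a)) = a
    rw [AlgEquiv.commutes, AlgHom.commutes]
    rfl

end

/-- **Stacks 07CF**: a syntomic algebra is a retract of a smooth algebra over it which is a
relative global complete intersection over the base. -/
theorem exists_smooth_retract {R A : Type u} [CommRing R] [CommRing A] [Algebra R A]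
    (h : Synt.IsSyntomic R A) :
    ∃ (n c : ℕ) (F : Fin c → MvPolynomial (Fin n) R), Synt.IsRelGCI R n c F ∧
      Module.Flat R (Synt.RelGCIRing R n c F) ∧
      ∃ (_ : Algebra A (Synt.RelGCIRing R n c F)) (_ : IsScalarTower R A (Synt.RelGCIRing R n c F)),
        Algebra.Smooth A (Synt.RelGCIRing R n c F) ∧
        ∃ ρ : Synt.RelGCIRing R n c F →ₐ[R] A,
          ∀ a : A, ρ (algebraMap A (Synt.RelGCIRing R n c F) a) = a := by
  classical
  haveI : Algebra.FinitePresentation R A := h.2.1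
  obtain ⟨n, f, hf, hfg⟩ := Algebra.FinitePresentation.out (R := R) (A := A)
  let e₀ : (MvPolynomial (Fin n) R ⧸ RingHom.ker f.toRingHom) ≃ₐ[R] A :=
    Ideal.quotientKerAlgEquivOfSurjective hf
  have hsyn' : Synt.IsSyntomic R (MvPolynomial (Fin n) R ⧸ RingHom.ker f.toRingHom) :=
    Groth.Agent.Lib.Helper82.SyntLocal.isSyntomic_of_algEquiv R e₀.symm h
  obtain ⟨N, c, F, hF, alg₀, tower₀, hsm₀, ρ₀, hρ₀⟩ :=
    exists_smooth_retract_quotient R n (RingHom.ker f.toRingHom) hfg hsyn'
  refine ⟨N, c, F, hF, (Groth.Agent.S9147.result R N c F hF).1, ?_⟩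
  letI algA₀ : Algebra A (MvPolynomial (Fin n) R ⧸ RingHom.ker f.toRingHom) :=
    (e₀.symm : A →+* _).toAlgebra
  letI algA : Algebra A (Synt.RelGCIRing R N c F) :=
    ((algebraMap (MvPolynomial (Fin n) R ⧸ RingHom.ker f.toRingHom) (Synt.RelGCIRing R N c F)).comp
      (e₀.symm : A →+* _)).toAlgebra
  haveI t1 : IsScalarTower A (MvPolynomial (Fin n) R ⧸ RingHom.ker f.toRingHom)
      (Synt.RelGCIRing R N c F) := IsScalarTower.of_algebraMap_eq fun _ => rfl
  have halg : ∀ a : A, algebraMap A (Synt.RelGCIRing R N c F) a =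
      algebraMap (MvPolynomial (Fin n) R ⧸ RingHom.ker f.toRingHom) (Synt.RelGCIRing R N c F)
        (e₀.symm a) := fun _ => rfl
  have t2 : IsScalarTower R A (Synt.RelGCIRing R N c F) :=
    IsScalarTower.of_algebraMap_eq (R := R) (S := A) (A := Synt.RelGCIRing R N c F) fun x => by
      rw [halg, AlgEquiv.commutes]
      exact IsScalarTower.algebraMap_apply R (MvPolynomial (Fin n) R ⧸ RingHom.ker f.toRingHom)
        (Synt.RelGCIRing R N c F) x
  haveI : IsLocalization.Away (1 : A) (MvPolynomial (Fin n) R ⧸ RingHom.ker f.toRingHom) :=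
    IsLocalization.away_of_isUnit_of_bijective _ isUnit_one e₀.symm.bijective
  haveI : Algebra.Smooth A (MvPolynomial (Fin n) R ⧸ RingHom.ker f.toRingHom) :=
    Algebra.Smooth.of_isLocalization_Away (1 : A)
  have hsm : Algebra.Smooth A (Synt.RelGCIRing R N c F) :=
    Algebra.Smooth.comp A (MvPolynomial (Fin n) R ⧸ RingHom.ker f.toRingHom)
      (Synt.RelGCIRing R N c F)
  refine ⟨algA, t2, hsm, e₀.toAlgHom.comp ρ₀, fun a => ?_⟩
  show e₀ (ρ₀ (algebraMap A (Synt.RelGCIRing R N c F) a)) = a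
  rw [halg, hρ₀, AlgEquiv.apply_symm_apply]

end Groth.Agent.H8.SR
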